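import Groth.Prelude.Def_HTor
import Groth.Agent.Dcoh.DerPull
import Groth.Agent.PerfB.TildeLpull
import Groth.Agent.S1121
import Groth.Agent.PerfB.KProjFlat

/-!
# Cohomology and base change over an affine base: the assembly

`computes_bc`: if `L` (K-projective) computes `RΓ(X, P)`, and `Lg^* Rf_* P ≅ Rf'_* (g'^* P)`, then `L ⊗ A'` computes
`RΓ(X', g'^* P)`, given the dictionary between `RΓA` and `Rf_*`.
-/

set_option autoImplicit false

universe u

open CategoryTheory CategoryTheory.Limits AlgebraicGeometry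

attribute [local instance] HasDerivedCategory.standard

namespace Groth.Agent.Htor.H248.Assembly

/-- The complex `L~` on `Spec A`. -/
noncomputable abbrev tildeCx {A : Type u} [CommRing A] (L : DRing.Cx A) :
    CochainComplex (Spec (CommRingCat.of A)).Modules ℤ :=
  ((tilde.functor (CommRingCat.of A)).mapHomologicalComplex (ComplexShape.up ℤ)).obj L

section

variable {A A' : Type u} [CommRing A] [CommRing A'] (φ : A →+* A')

/-- `(Spec φ)^* (L~) ≅ (L ⊗_A A')~` for complexes. -/
noncomputable def pullTildeCx (L : DRing.Cx A) :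
    ((Scheme.Modules.pullback (Spec.map (CommRingCat.ofHom φ))).mapHomologicalComplex
      (ComplexShape.up ℤ)).obj (tildeCx L) ≅ tildeCx (CohIII.bcCx φ L) :=
  (NatIso.mapHomologicalComplex (Groth.Agent.PerfB.TildeLpull.modIso (CommRingCat.ofHom φ))
    (ComplexShape.up ℤ)).app L

/-- `Lg^* (L~) ≅ (L ⊗_A A')~` in the derived category, for `L` K-flat. -/
theorem nonempty_lpull_tildeCx (L : DRing.Cx A) (b : ℤ) (hb : DRing.VanishesAbove L b)
    (hL : ∀ i : ℤ, Projective (L.X i)) [DCoh.HasLpull (Spec.map (CommRingCat.ofHom φ))] :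
    Nonempty ((DCoh.Lpull (Spec.map (CommRingCat.ofHom φ))).obj (DerivedCategory.Q.obj (tildeCx L)) ≅
      DerivedCategory.Q.obj (tildeCx (CohIII.bcCx φ L))) := by
  have h1 : L.IsStrictlyLE b := (CochainComplex.isStrictlyLE_iff L b).2 fun i hi => hb i hi
  have h2 : L.IsKProjective := CochainComplex.isKProjective_of_projective L b
  have h3 : DCoh.IsKFlat (tildeCx L) :=
    S1121.result (CommRingCat.of A) L (Groth.Agent.PerfB.KProjFlat.isZero_homology_tensor
      (Groth.Agent.PerfB.KProjFlat.kfl_of_isKProjective L))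
  exact ⟨Groth.Agent.Dcoh.DerPull.lpullIso _ _ h3 ≪≫ DerivedCategory.Q.mapIso (pullTildeCx φ L)⟩

end

section

variable {A A' : Type u} [CommRing A] [CommRing A'] (φ : A →+* A')
    {X : Scheme.{u}} (f : X ⟶ Spec (CommRingCat.of A)) [HTor.HasRΓA f]
    [HTor.HasRΓA (pullback.snd f (Spec.map (CommRingCat.ofHom φ)))]
    [DCoh.HasRpush f] [DCoh.HasRpush (pullback.snd f (Spec.map (CommRingCat.ofHom φ)))]
    [DCoh.HasLpull (Spec.map (CommRingCat.ofHom φ))]

/-- The assembly. -/
theorem computes_bc (P : CochainComplex X.Modules ℤ) (L : DRing.Cx A)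
    (hL : ∀ i : ℤ, Projective (L.X i)) (c : ℤ) (hc : DRing.VanishesAbove L c)
    (d1 : HTor.Computes f L (DCoh.toD X P) → Nonempty (DerivedCategory.Q.obj (tildeCx L) ≅
      (DCoh.Rpush f).obj (DCoh.toD X P)))
    (d2 : Nonempty (DerivedCategory.Q.obj (tildeCx (CohIII.bcCx φ L)) ≅
        (DCoh.Rpush (pullback.snd f (Spec.map (CommRingCat.ofHom φ)))).obj
          (DCoh.toD _ ((HTor.pullCx (pullback.fst f (Spec.map (CommRingCat.ofHom φ)))).obj P))) →
      HTor.Computes (pullback.snd f (Spec.map (CommRingCat.ofHom φ))) (CohIII.bcCx φ L)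
        (DCoh.toD _ ((HTor.pullCx (pullback.fst f (Spec.map (CommRingCat.ofHom φ)))).obj P)))
    (hbc : Nonempty ((DCoh.Lpull (Spec.map (CommRingCat.ofHom φ))).obj ((DCoh.Rpush f).obj (DCoh.toD X P)) ≅
      (DCoh.Rpush (pullback.snd f (Spec.map (CommRingCat.ofHom φ)))).obj
        (DCoh.toD _ ((HTor.pullCx (pullback.fst f (Spec.map (CommRingCat.ofHom φ)))).obj P))))
    (e : HTor.Computes f L (DCoh.toD X P)) :
    HTor.Computes (pullback.snd f (Spec.map (CommRingCat.ofHom φ))) (CohIII.bcCx φ L)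
      (DCoh.toD _ ((HTor.pullCx (pullback.fst f (Spec.map (CommRingCat.ofHom φ)))).obj P)) := by
  obtain ⟨e1⟩ := d1 e
  obtain ⟨e2⟩ := hbc
  obtain ⟨e3⟩ := nonempty_lpull_tildeCx φ L c hc hL
  exact d2 ⟨e3.symm ≪≫ (DCoh.Lpull _).mapIso e1 ≪≫ e2⟩

end

end Groth.Agent.Htor.H248.Assembly
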